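import Mathlib

/-!
# Local-ness of rings generated by two local algebras, one integral, one with purely inseparable
residue field

Abstract setting: `A → B`, `A → C` local homomorphisms of local rings, `C` integral over `A`,
`T` a ring with ring maps `f : B → T`, `g : C → T` agreeing on `A`, generated by the products
`f b * g c`, with `f` integral.  If `κ(C)/κ(A)` or `κ(B)/κ(A)` is purely inseparable and `T` is
nontrivial then `T` is local with `f`, `g` local, and every element has a `p^n`-th power congruent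
to an element of `f(B)` (resp. `g(C)`) modulo the maximal ideal.
-/

set_option autoImplicit false

namespace Groth.Agent.H78.TensorLocal

open IsLocalRing

section Pow

variable {T D E : Type*} [CommRing T] [CommRing D] [CommRing E]

/-- congruences modulo an ideal are preserved by powers -/
lemma pow_sub_pow_mem {N : Ideal T} {u v : T} (h : u - v ∈ N) (j : ℕ) : u ^ j - v ^ j ∈ N := by
  obtain ⟨w, hw⟩ := sub_dvd_pow_sub_pow u v j
  rw [hw]
  exact Ideal.mul_mem_right _ _ h

/-- the Frobenius-power approximation lemma -/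
lemma exists_pow_sub_mem (N : Ideal T) (p : ℕ) (hp : p = 1 ∨ (p.Prime ∧ (p : T) ∈ N))
    (φ : D →+* T) (ψ : E →+* T)
    (hψ : ∀ e : E, ∃ (n : ℕ) (d : D), ψ e ^ p ^ n - φ d ∈ N)
    (hind : ∀ (P : T → Prop), P 0 → (∀ d e, P (φ d * ψ e)) → (∀ x y, P x → P y → P (x + y)) →
      ∀ x, P x) :
    ∀ x : T, ∃ (n : ℕ) (d : D), x ^ p ^ n - φ d ∈ N := by
  apply hind
  · exact ⟨0, 0, by simp⟩
  · intro d₀ e
    obtain ⟨n, d, hd⟩ := hψ e
    refine ⟨n, d₀ ^ p ^ n * d, ?_⟩
    have : (φ d₀ * ψ e) ^ p ^ n - φ (d₀ ^ p ^ n * d) = φ d₀ ^ p ^ n * (ψ e ^ p ^ n - φ d) := by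
      rw [map_mul, map_pow]; ring
    rw [this]
    exact Ideal.mul_mem_left _ _ hd
  · rintro x y ⟨n, d, hd⟩ ⟨m, d', hd'⟩
    have hx : x ^ p ^ (n + m) - φ (d ^ p ^ m) ∈ N := by
      have := pow_sub_pow_mem hd (p ^ m)
      rwa [← pow_mul, ← pow_add, ← map_pow] at this
    have hy : y ^ p ^ (n + m) - φ (d' ^ p ^ n) ∈ N := by
      have := pow_sub_pow_mem hd' (p ^ n)
      rwa [← pow_mul, ← pow_add, ← map_pow, add_comm m n] at this
    refine ⟨n + m, d ^ p ^ m + d' ^ p ^ n, ?_⟩
    rcases hp with rfl | ⟨hpp, hpN⟩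
    · simp only [one_pow, pow_one] at hx hy ⊢
      have : x + y - φ (d + d') = (x - φ d) + (y - φ d') := by rw [map_add]; ring
      rw [this]
      simp only [one_pow, pow_one] at hd hd'
      exact Ideal.add_mem _ hd hd'
    · obtain ⟨r, hr⟩ := exists_add_pow_prime_pow_eq hpp x y (n + m)
      have : (x + y) ^ p ^ (n + m) - φ (d ^ p ^ m + d' ^ p ^ n) =
          (x ^ p ^ (n + m) - φ (d ^ p ^ m)) + (y ^ p ^ (n + m) - φ (d' ^ p ^ n)) +
            (p : T) * (x * y * r) := by
        rw [hr, map_add]; ring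
      rw [this]
      exact Ideal.add_mem _ (Ideal.add_mem _ hx hy) (Ideal.mul_mem_right _ _ hpN)

end Pow

section PI

variable {A E : Type*} [CommRing A] [CommRing E] [IsLocalRing A] [IsLocalRing E]
  [Algebra A E] [IsLocalHom (algebraMap A E)]

/-- purely inseparable residue field extension, elementwise -/
lemma exists_pow_sub_algebraMap_mem [IsPurelyInseparable (ResidueField A) (ResidueField E)]
    (p : ℕ) [ExpChar (ResidueField A) p] (e : E) :
    ∃ (n : ℕ) (a : A), e ^ p ^ n - algebraMap A E a ∈ maximalIdeal E := by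
  obtain ⟨n, abar, ha⟩ := IsPurelyInseparable.pow_mem (ResidueField A) p (residue E e)
  obtain ⟨a, rfl⟩ := residue_surjective abar
  refine ⟨n, a, ?_⟩
  rw [← residue_eq_zero_iff, map_sub, map_pow, sub_eq_zero, ← ha]
  rfl

/-- the exponential characteristic of the residue field lies in the maximal ideal (or is `1`) -/
lemma expChar_cases (p : ℕ) [hp : ExpChar (ResidueField A) p] :
    p = 1 ∨ (p.Prime ∧ (p : A) ∈ maximalIdeal A) := by
  cases hp with
  | zero => exact Or.inl rfl
  | prime hpp =>
    refine Or.inr ⟨hpp, ?_⟩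
    rw [← residue_eq_zero_iff, map_natCast]
    exact CharP.cast_eq_zero _ _

end PI

section Main

variable {A B C T : Type*} [CommRing A] [CommRing B] [CommRing C] [CommRing T]
  [IsLocalRing A] [IsLocalRing B] [IsLocalRing C]
  [Algebra A B] [Algebra A C] [IsLocalHom (algebraMap A B)] [IsLocalHom (algebraMap A C)]
  [Algebra.IsIntegral A C]
  (f : B →+* T) (g : C →+* T)

/-- the ideal generated by the two maximal ideals -/
def N : Ideal T := Ideal.map f (maximalIdeal B) ⊔ Ideal.map g (maximalIdeal C)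

variable (hfg : f.comp (algebraMap A B) = g.comp (algebraMap A C)) (hfint : f.IsIntegral)

include hfg hfint in
lemma N_le_jacobson : N f g ≤ Ideal.jacobson ⊥ := by
  rw [Ideal.jacobson]
  refine le_sInf ?_
  rintro M ⟨-, hM⟩
  have hB : M.comap f = maximalIdeal B :=
    eq_maximalIdeal (Ideal.isMaximal_comap_of_isIntegral_of_isMaximal' f hfint M)
  have hA : (M.comap g).comap (algebraMap A C) = maximalIdeal A := by
    rw [Ideal.comap_comap, ← hfg, ← Ideal.comap_comap, hB]
    exact ((local_hom_TFAE (algebraMap A B)).out 0 4 rfl rfl).mp inferInstance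
  have hC : M.comap g = maximalIdeal C := by
    have : (M.comap g).IsPrime := Ideal.comap_isPrime g M
    apply eq_maximalIdeal
    apply Ideal.isMaximal_of_isIntegral_of_isMaximal_comap (R := A)
    rw [hA]
    exact maximalIdeal.isMaximal A
  rw [N, sup_le_iff, Ideal.map_le_iff_le_comap, Ideal.map_le_iff_le_comap, hB, hC]
  exact ⟨le_rfl, le_rfl⟩

variable (hind : ∀ (P : T → Prop), P 0 → (∀ b c, P (f b * g c)) →
  (∀ x y, P x → P y → P (x + y)) → ∀ x, P x)

include hfg in
lemma natCast_mem_N (p : ℕ) (hp : (p : A) ∈ maximalIdeal A) : (p : T) ∈ N f g := by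
  have h1 : algebraMap A B (p : A) ∈ maximalIdeal B :=
    (mem_maximalIdeal _).mpr fun hu =>
      (mem_maximalIdeal _).mp hp (isUnit_of_map_unit (algebraMap A B) _ hu)
  have h2 := Ideal.mem_map_of_mem f h1
  rw [map_natCast, map_natCast] at h2
  exact Ideal.mem_sup_left h2

include hfg hind in
/-- `κ(C)/κ(A)` purely inseparable: powers land in `f(B)` modulo `N` -/
lemma exists_pow_sub_left_mem [IsPurelyInseparable (ResidueField A) (ResidueField C)]
    (p : ℕ) [ExpChar (ResidueField A) p] (x : T) :
    ∃ (n : ℕ) (b : B), x ^ p ^ n - f b ∈ N f g := by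
  refine exists_pow_sub_mem (N f g) p ?_ f g ?_ hind x
  · rcases expChar_cases (A := A) p with h | ⟨h1, h2⟩
    · exact Or.inl h
    · exact Or.inr ⟨h1, natCast_mem_N f g hfg p h2⟩
  · intro c
    obtain ⟨n, a, ha⟩ := exists_pow_sub_algebraMap_mem (A := A) p c
    refine ⟨n, algebraMap A B a, ?_⟩
    have h1 := Ideal.mem_map_of_mem g ha
    rw [map_sub, map_pow] at h1
    have h2 : f (algebraMap A B a) = g (algebraMap A C a) := RingHom.congr_fun hfg a
    rw [h2]
    exact Ideal.mem_sup_right h1

include hfg hind in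
/-- `κ(B)/κ(A)` purely inseparable: powers land in `g(C)` modulo `N` -/
lemma exists_pow_sub_right_mem [IsPurelyInseparable (ResidueField A) (ResidueField B)]
    (p : ℕ) [ExpChar (ResidueField A) p] (x : T) :
    ∃ (n : ℕ) (c : C), x ^ p ^ n - g c ∈ N f g := by
  refine exists_pow_sub_mem (N f g) p ?_ g f ?_ ?_ x
  · rcases expChar_cases (A := A) p with h | ⟨h1, h2⟩
    · exact Or.inl h
    · exact Or.inr ⟨h1, natCast_mem_N f g hfg p h2⟩
  · intro b
    obtain ⟨n, a, ha⟩ := exists_pow_sub_algebraMap_mem (A := A) p b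
    refine ⟨n, algebraMap A C a, ?_⟩
    have h1 := Ideal.mem_map_of_mem f ha
    rw [map_sub, map_pow] at h1
    have h2 : f (algebraMap A B a) = g (algebraMap A C a) := RingHom.congr_fun hfg a
    rw [← h2]
    exact Ideal.mem_sup_left h1
  · intro P h0 hmul hadd
    exact hind P h0 (fun b c => by rw [mul_comm]; exact hmul c b) hadd

/-- a unit plus an element of the Jacobson radical is a unit -/
lemma isUnit_of_sub_mem_jacobson {x y : T} (hy : IsUnit y)
    (h : x - y ∈ Ideal.jacobson (⊥ : Ideal T)) : IsUnit x := by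
  obtain ⟨u, rfl⟩ := hy
  have h1 := Ideal.mem_jacobson_bot.mp h (↑u⁻¹)
  have h2 : x = ((x - u) * ↑u⁻¹ + 1) * u := by
    have : (↑u⁻¹ : T) * u = 1 := Units.inv_mul u
    linear_combination (-(x - u)) * this
  rw [h2]
  exact h1.mul u.isUnit

lemma mem_jacobson_of_pow_mem {x : T} {k : ℕ} (h : x ^ k ∈ Ideal.jacobson (⊥ : Ideal T)) :
    x ∈ Ideal.jacobson (⊥ : Ideal T) := by
  rw [Ideal.jacobson, Ideal.mem_sInf] at h ⊢
  rintro M ⟨hM1, hM2⟩
  exact hM2.isPrime.mem_of_pow_mem k (h ⟨hM1, hM2⟩)

include hfg hfint hind in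
/-- the main dichotomy -/
lemma isUnit_or_mem_jacobson
    (h : IsPurelyInseparable (ResidueField A) (ResidueField C) ∨
      IsPurelyInseparable (ResidueField A) (ResidueField B)) (x : T) :
    IsUnit x ∨ x ∈ Ideal.jacobson (⊥ : Ideal T) := by
  have hN := N_le_jacobson f g hfg hfint
  have : ExpChar (ResidueField A) (ringExpChar (ResidueField A)) := inferInstance
  have hpos : ∀ n, ringExpChar (ResidueField A) ^ n ≠ 0 := fun n =>
    pow_ne_zero _ (expChar_pos (ResidueField A) _).ne'
  rcases h with h | h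
  · obtain ⟨n, b, hb⟩ := exists_pow_sub_left_mem f g hfg hind (ringExpChar (ResidueField A)) x
    by_cases hbu : IsUnit b
    · left
      have := isUnit_of_sub_mem_jacobson (hbu.map f) (hN hb)
      exact (isUnit_pow_iff (hpos n)).mp this
    · right
      have hbm : b ∈ maximalIdeal B := (mem_maximalIdeal b).mpr hbu
      have h1 : f b ∈ N f g := Ideal.mem_sup_left (Ideal.mem_map_of_mem f hbm)
      have h2 : x ^ ringExpChar (ResidueField A) ^ n ∈ N f g := by
        have := Ideal.add_mem _ hb h1
        rwa [sub_add_cancel] at this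
      exact mem_jacobson_of_pow_mem (hN h2)
  · obtain ⟨n, c, hc⟩ := exists_pow_sub_right_mem f g hfg hind (ringExpChar (ResidueField A)) x
    by_cases hcu : IsUnit c
    · left
      have := isUnit_of_sub_mem_jacobson (hcu.map g) (hN hc)
      exact (isUnit_pow_iff (hpos n)).mp this
    · right
      have hcm : c ∈ maximalIdeal C := (mem_maximalIdeal c).mpr hcu
      have h1 : g c ∈ N f g := Ideal.mem_sup_right (Ideal.mem_map_of_mem g hcm)
      have h2 : x ^ ringExpChar (ResidueField A) ^ n ∈ N f g := by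
        have := Ideal.add_mem _ hc h1
        rwa [sub_add_cancel] at this
      exact mem_jacobson_of_pow_mem (hN h2)

include hfg hfint hind in
theorem isLocalRing [Nontrivial T]
    (h : IsPurelyInseparable (ResidueField A) (ResidueField C) ∨
      IsPurelyInseparable (ResidueField A) (ResidueField B)) : IsLocalRing T := by
  apply IsLocalRing.of_isUnit_or_isUnit_one_sub_self
  intro x
  rcases isUnit_or_mem_jacobson f g hfg hfint hind h x with hx | hx
  · exact Or.inl hx
  · right
    have := Ideal.mem_jacobson_bot.mp hx (-1)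
    convert this using 1
    ring

include hfg hfint in
theorem N_le_maximalIdeal [IsLocalRing T] : N f g ≤ maximalIdeal T := by
  have := N_le_jacobson f g hfg hfint
  rwa [IsLocalRing.jacobson_eq_maximalIdeal ⊥ bot_ne_top] at this

include hfg hfint in
theorem isLocalHom_left [IsLocalRing T] : IsLocalHom f := by
  constructor
  intro b hb
  by_contra hnb
  have h1 : f b ∈ maximalIdeal T := N_le_maximalIdeal f g hfg hfint
    (Ideal.mem_sup_left (Ideal.mem_map_of_mem f ((mem_maximalIdeal b).mpr hnb)))
  exact (mem_maximalIdeal _).mp h1 hb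

include hfg hfint in
theorem isLocalHom_right [IsLocalRing T] : IsLocalHom g := by
  constructor
  intro c hc
  by_contra hnc
  have h1 : g c ∈ maximalIdeal T := N_le_maximalIdeal f g hfg hfint
    (Ideal.mem_sup_right (Ideal.mem_map_of_mem g ((mem_maximalIdeal c).mpr hnc)))
  exact (mem_maximalIdeal _).mp h1 hc

end Main

end Groth.Agent.H78.TensorLocal
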