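import Mathlib
import Groth.Agent.H78.TensorLocal.Basic

/-!
# Tensor products of local rings, one factor integral, one residue field purely inseparable
-/

set_option autoImplicit false

namespace Groth.Agent.H78.TensorLocal

open IsLocalRing TensorProduct

universe u

variable (A B C : Type u) [CommRing A] [CommRing B] [CommRing C]
  [IsLocalRing A] [IsLocalRing B] [IsLocalRing C]
  [Algebra A B] [Algebra A C] [IsLocalHom (algebraMap A B)] [IsLocalHom (algebraMap A C)]

/-- the tensor product of two local algebras (local structure maps) over a local ring is nonzero -/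
theorem nontrivial_tensor : Nontrivial (B ⊗[A] C) := by
  have hnt : Nontrivial (ResidueField B ⊗[ResidueField A] ResidueField C) :=
    Algebra.TensorProduct.nontrivial_of_algebraMap_injective_of_flat_left _ _ _
      (algebraMap (ResidueField A) (ResidueField C)).injective
  set S := ResidueField B ⊗[ResidueField A] ResidueField C with hS
  letI algAS : Algebra A S := ((algebraMap (ResidueField A) S).comp (residue A)).toAlgebra
  let f : B →ₐ[A] S :=
    { toRingHom := (Algebra.TensorProduct.includeLeft :
          ResidueField B →ₐ[ResidueField A] S).toRingHom.comp (residue B)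
      commutes' := by
        intro a
        show (Algebra.TensorProduct.includeLeft : ResidueField B →ₐ[ResidueField A] S)
          (residue B (algebraMap A B a)) = algebraMap (ResidueField A) S (residue A a)
        rw [← ResidueField.algebraMap_residue, AlgHom.commutes] }
  let g : C →ₐ[A] S :=
    { toRingHom := (Algebra.TensorProduct.includeRight :
          ResidueField C →ₐ[ResidueField A] S).toRingHom.comp (residue C)
      commutes' := by
        intro a
        show (Algebra.TensorProduct.includeRight : ResidueField C →ₐ[ResidueField A] S)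
          (residue C (algebraMap A C a)) = algebraMap (ResidueField A) S (residue A a)
        rw [← ResidueField.algebraMap_residue, AlgHom.commutes] }
  let φ : B ⊗[A] C →ₐ[A] S := Algebra.TensorProduct.productMap f g
  exact φ.toRingHom.domain_nontrivial

variable {A B C}

lemma tensor_hind (P : B ⊗[A] C → Prop) (h0 : P 0)
    (hmul : ∀ b c, P ((Algebra.TensorProduct.includeLeft : B →ₐ[A] B ⊗[A] C).toRingHom b *
      (Algebra.TensorProduct.includeRight : C →ₐ[A] B ⊗[A] C).toRingHom c))
    (hadd : ∀ x y, P x → P y → P (x + y)) : ∀ x, P x := by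
  intro x
  induction x using TensorProduct.induction_on with
  | zero => exact h0
  | tmul b c =>
    have := hmul b c
    have h1 : (Algebra.TensorProduct.includeLeft : B →ₐ[A] B ⊗[A] C).toRingHom b *
      (Algebra.TensorProduct.includeRight : C →ₐ[A] B ⊗[A] C).toRingHom c = b ⊗ₜ[A] c := by
      show (b ⊗ₜ[A] (1 : C)) * ((1 : B) ⊗ₜ[A] c) = b ⊗ₜ[A] c
      rw [Algebra.TensorProduct.tmul_mul_tmul, mul_one, one_mul]
    rwa [h1] at this
  | add x y hx hy => exact hadd x y hx hy

lemma tensor_hfg :
    ((Algebra.TensorProduct.includeLeft : B →ₐ[A] B ⊗[A] C).toRingHom).comp (algebraMap A B) =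
    ((Algebra.TensorProduct.includeRight : C →ₐ[A] B ⊗[A] C).toRingHom).comp (algebraMap A C) := by
  ext a
  show (algebraMap A B a) ⊗ₜ[A] (1 : C) = (1 : B) ⊗ₜ[A] (algebraMap A C a)
  rw [Algebra.algebraMap_eq_smul_one, Algebra.algebraMap_eq_smul_one, TensorProduct.smul_tmul]

variable [Algebra.IsIntegral A C]

lemma tensor_isIntegral_includeLeft :
    ((Algebra.TensorProduct.includeLeft : B →ₐ[A] B ⊗[A] C).toRingHom).IsIntegral := by
  intro x
  have : IsIntegral B x := Algebra.IsIntegral.isIntegral x
  exact this

/-- `B ⊗[A] C` is local, with local structure maps, when `C` is integral over `A` and one of the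
residue field extensions is purely inseparable -/
theorem tensor_isLocalRing
    (h : IsPurelyInseparable (ResidueField A) (ResidueField C) ∨
      IsPurelyInseparable (ResidueField A) (ResidueField B)) :
    IsLocalRing (B ⊗[A] C) ∧
      IsLocalHom (Algebra.TensorProduct.includeLeft : B →ₐ[A] B ⊗[A] C).toRingHom ∧
      IsLocalHom (Algebra.TensorProduct.includeRight : C →ₐ[A] B ⊗[A] C).toRingHom := by
  haveI := nontrivial_tensor A B C
  have hloc : IsLocalRing (B ⊗[A] C) :=
    isLocalRing _ _ tensor_hfg tensor_isIntegral_includeLeft tensor_hind h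
  exact ⟨hloc, isLocalHom_left _ _ tensor_hfg tensor_isIntegral_includeLeft,
    isLocalHom_right _ _ tensor_hfg tensor_isIntegral_includeLeft⟩

/-- if `κ(C)/κ(A)` is purely inseparable, `p^n`-th powers in `B ⊗[A] C` come from `B` modulo the
maximal ideal -/
theorem tensor_exists_pow_sub_mem [IsLocalRing (B ⊗[A] C)]
    [IsPurelyInseparable (ResidueField A) (ResidueField C)]
    (p : ℕ) [ExpChar (ResidueField A) p] (x : B ⊗[A] C) :
    ∃ (n : ℕ) (b : B), x ^ p ^ n - b ⊗ₜ[A] (1 : C) ∈ maximalIdeal (B ⊗[A] C) := by
  obtain ⟨n, b, hb⟩ := exists_pow_sub_left_mem _ _ tensor_hfg tensor_hind p x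
  exact ⟨n, b, N_le_maximalIdeal _ _ tensor_hfg tensor_isIntegral_includeLeft hb⟩

end Groth.Agent.H78.TensorLocal
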